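import Groth.Agent.Lib.Helper25.GorUniq.Norm
import Groth.Agent.Lib.Helper39.Dual.ArtDual
import Groth.Agent.S5155
import Groth.Agent.S0302

/-!
# Uniqueness of dualizing modules over an Artinian local ring
-/

set_option autoImplicit false
universe u

namespace Groth.Agent.Lib.Helper25.GorUniq

open CategoryTheory CategoryTheory.Limits CategoryTheory.Pretriangulated DerivedCategory
open Groth.Agent.Lib.Helper25.Bidual Groth.Agent.Lib.Helper25.LocDual

attribute [local instance] HasDerivedCategory.standard

variable {B : Type u} [CommRing B] [IsLocalRing B] [IsNoetherianRing B]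

/-- a dualizing module over an Artinian local ring is an injective hull of the residue field -/
theorem exists_injectiveHull_of_dim_zero (h0 : ringKrullDim B = 0) (V : Type u) [AddCommGroup V]
    [Module B V] [Module.Finite B V] (hV : Dual.IsDualizing B (Dual.inD B V)) :
    ∃ g : IsLocalRing.ResidueField B →ₗ[B] V, InjHull.IsInjectiveHull g := by
  haveI : IsArtinianRing B :=
    isArtinianRing_iff_krullDimLE_zero.mpr (Ring.krullDimLE_iff.mpr (le_of_eq h0))
  have hd : Module.supportDim B B = ((0 : ℕ) : WithBot ℕ∞) := by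
    rw [Module.supportDim_self_eq_ringKrullDim, h0]; rfl
  have hn : Dual.IsNormalized B (Dual.inD B V) := by
    intro i hi
    exact residue_vanish_ne_dim V hV 0 hd i (by exact_mod_cast hi)
  obtain ⟨W, ⟨e⟩, hinj, hsimple⟩ := Groth.Agent.Lib.Helper39.Dual.artinian_main _ hV hn
  have htors : LocCoh.IsPowerTorsion (IsLocalRing.maximalIdeal B) W := by
    obtain ⟨n, hn'⟩ := IsArtinianRing.isNilpotent_jacobson_bot (R := B)
    rw [IsLocalRing.jacobson_eq_maximalIdeal ⊥ bot_ne_top] at hn'
    intro w
    refine ⟨n, fun a ha => ?_⟩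
    rw [hn'] at ha
    have ha0 : a = 0 := ha
    rw [ha0, zero_smul]
  obtain ⟨g, hg⟩ := (Groth.Agent.S5155.result B W).2 ⟨hinj, htors, hsimple⟩
  let l : W ≃ₗ[B] V := ((singleFunctor (ModuleCat.{u} B) 0).preimageIso e).symm.toLinearEquiv
  refine ⟨l.toLinearMap ∘ₗ g, ?_⟩
  refine ⟨⟨l.injective.comp hg.injective, fun N hN => ?_⟩, ?_⟩
  · -- essential
    have h1 := hg.essential (N.comap l.toLinearMap) (by
      intro hbot
      apply hN
      rw [eq_bot_iff]
      intro v hv
      have hv' : l.symm v ∈ N.comap l.toLinearMap := by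
        rw [Submodule.mem_comap]
        simpa using hv
      rw [hbot, Submodule.mem_bot] at hv'
      rw [Submodule.mem_bot]
      have := congrArg l hv'
      simpa using this)
    intro hbot
    apply h1
    rw [eq_bot_iff]
    rintro w ⟨hw1, k, rfl⟩
    rw [Submodule.mem_bot]
    have h2 : l (g k) ∈ N ⊓ LinearMap.range (l.toLinearMap ∘ₗ g) :=
      ⟨hw1, k, rfl⟩
    rw [hbot, Submodule.mem_bot] at h2
    exact l.injective (h2.trans (map_zero l).symm)
  · exact Module.Baer.injective (Module.Baer.of_equiv l (Module.Baer.of_injective hinj))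

/-- uniqueness of dualizing modules in dimension zero -/
theorem nonempty_linearEquiv_of_dim_zero (h0 : ringKrullDim B = 0) (V W : Type u)
    [AddCommGroup V] [Module B V] [Module.Finite B V] [AddCommGroup W] [Module B W]
    [Module.Finite B W] (hV : Dual.IsDualizing B (Dual.inD B V))
    (hW : Dual.IsDualizing B (Dual.inD B W)) : Nonempty (V ≃ₗ[B] W) := by
  obtain ⟨g, hg⟩ := exists_injectiveHull_of_dim_zero h0 V hV
  obtain ⟨g', hg'⟩ := exists_injectiveHull_of_dim_zero h0 W hW
  obtain ⟨l, -⟩ := Groth.Agent.S0302.result B (IsLocalRing.ResidueField B) V W g hg g' hg'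
  exact ⟨l⟩

end Groth.Agent.Lib.Helper25.GorUniq
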