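import Groth.Agent.Lib.Helper25.GorUniq.Main
import Groth.Agent.Lib.Helper68.DualBasic

/-!
# A Noetherian local ring with a dualizing complex `ω` is Gorenstein iff `ω ≅ B[m]`
-/

set_option autoImplicit false
universe u

namespace Groth.Agent.Lib.Helper25.GorUniq

open CategoryTheory CategoryTheory.Limits CategoryTheory.Pretriangulated DerivedCategory
open Groth.Agent.Lib.Helper25.Bidual Groth.Agent.Lib.Helper25.LocDual

attribute [local instance] HasDerivedCategory.standard

section

variable {B : Type u} [CommRing B]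

/-- a complex with a single cohomology module is a shifted module -/
theorem single_model (ω : Dual.D B) (m : ℤ)
    (hm : ∀ i : ℤ, i ≠ m → Subsingleton (Dual.HD B ω i)) :
    ∃ V' : ModuleCat.{u} B, Nonempty (ω⟦m⟧ ≅ Dual.inD B V') ∧
      Nonempty (Dual.HD B ω m ≃ₗ[B] V') := by
  have : ω.IsGE m := (DerivedCategory.isGE_iff ω m).2 (fun i hi => by
    have := hm i (ne_of_lt hi)
    exact ModuleCat.isZero_of_subsingleton _)
  have : ω.IsLE m := (DerivedCategory.isLE_iff ω m).2 (fun i hi => by
    have := hm i (ne_of_gt hi)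
    exact ModuleCat.isZero_of_subsingleton _)
  obtain ⟨V, ⟨e⟩⟩ := DerivedCategory.exists_iso_singleFunctor_obj_of_isGE_of_isLE ω m
  refine ⟨V, ⟨(shiftFunctor (Dual.D B) m).mapIso e ≪≫
    ((singleFunctors (ModuleCat.{u} B)).shiftIso m 0 m (by simp)).app V⟩, ⟨?_⟩⟩
  exact ((homologyFunctor (ModuleCat.{u} B) m).mapIso e ≪≫
    (singleFunctorCompHomologyFunctorIso (ModuleCat.{u} B) m).app V).toLinearEquiv

end

variable {B : Type u} [CommRing B] [IsLocalRing B] [IsNoetherianRing B]

theorem gor_iff (ω : Dual.D B) (hω : Dual.IsDualizing B ω) :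
    LocCoh.IsGorensteinLocalRing B ↔
      ∃ m : ℤ, (∀ i : ℤ, i ≠ m → Subsingleton (Dual.HD B ω i)) ∧
        Nonempty (Dual.HD B ω m ≃ₗ[B] B) := by
  constructor
  · intro hG
    obtain ⟨n, hn⟩ := hG.exists_hasInjectiveDimensionLT
    have hB : Dual.IsDualizing B (Dual.inD B B) :=
      Groth.Agent.Lib.Helper68.DualBasic.isDualizing_self_of_hasInjectiveDimensionLT B n
    have hcm := supportDim_eq_depth_of_dualizing_module B hB
    obtain ⟨m, hm⟩ := single_cohomology_of_cm ω hω hcm
    refine ⟨m, hm, ?_⟩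
    obtain ⟨V', ⟨e⟩, ⟨l⟩⟩ := single_model ω m hm
    have hdV : Dual.IsDualizing B (Dual.inD B V') := isDualizing_of_iso e (isDualizing_shift ω hω m)
    have hfin : Module.Finite B V' := by
      have := hω.finite_cohomology m
      exact Module.Finite.equiv l
    obtain ⟨d, hd⟩ := exists_supportDim_self_eq ω hω
    rw [Module.supportDim_self_eq_ringKrullDim] at hd
    obtain ⟨l'⟩ := gor_uniq d B hd hB V' hdV
    exact ⟨l.trans l'.symm⟩
  · rintro ⟨m, hm, ⟨l₀⟩⟩
    obtain ⟨V', ⟨e⟩, ⟨l⟩⟩ := single_model ω m hm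
    have hdV : Dual.IsDualizing B (Dual.inD B V') := isDualizing_of_iso e (isDualizing_shift ω hω m)
    let l₁ : V' ≃ₗ[B] B := l.symm.trans l₀
    have hB : Dual.IsDualizing B (Dual.inD B B) :=
      isDualizing_of_iso ((singleFunctor (ModuleCat.{u} B) 0).mapIso l₁.toModuleIso) hdV
    exact { exists_hasInjectiveDimensionLT :=
      Groth.Agent.Lib.Helper68.DualBasic.exists_hasInjectiveDimensionLT_of_isDualizing_self B hB }

end Groth.Agent.Lib.Helper25.GorUniq
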