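import Groth.Agent.Lib.Helper25.LocDual.MinPrime

/-!
# Cohomology of the localization of a complex, as a module over the localization
-/

set_option autoImplicit false
universe u

namespace Groth.Agent.Lib.Helper25.GorUniq

open CategoryTheory CategoryTheory.Limits CategoryTheory.Pretriangulated DerivedCategory
open Groth.Agent.Lib.Helper84 Groth.Agent.Lib.Helper25.Bidual Groth.Agent.Lib.Helper25.LocDual

attribute [local instance] HasDerivedCategory.standard

variable {A : Type u} [CommRing A] (S : Submonoid A)

/-- localization of cohomology = cohomology of the extension of scalars, linearly over the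
localization -/
theorem nonempty_localizedModule_equiv
    (ω : Dual.D A) (I : DRing.Cx A) (e : Q.obj I ≅ ω) (i : ℤ) :
    Nonempty (LocalizedModule S (Dual.HD A ω i) ≃ₗ[Localization S]
      Dual.HD (Localization S) (Q.obj ((DTen.extCx (algebraMap A (Localization S))).obj I)) i) := by
  let φ : A →+* Localization S := algebraMap A (Localization S)
  have hloc : @IsLocalization A _ S (Localization S) _ φ.toAlgebra := by
    have h : φ.toAlgebra = (inferInstance : Algebra A (Localization S)) :=
      Algebra.algebra_ext _ _ (fun _ => rfl)
    rw [h]
    infer_instance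
  have hflat : φ.Flat := flat_of_isLocalization φ S hloc
  haveI : PreservesFiniteLimits (FlatBC.ext φ) := FlatBC.preservesFiniteLimits_ext φ hflat
  haveI : PreservesFiniteColimits (FlatBC.ext φ) :=
    haveI : (FlatBC.ext φ).IsLeftAdjoint :=
      (ModuleCat.extendRestrictScalarsAdj φ).isLeftAdjoint
    inferInstance
  have e1 : (DerivedCategory.homologyFunctor (ModuleCat.{u} A) i).obj ω ≅ I.homology i :=
    (DerivedCategory.homologyFunctor (ModuleCat.{u} A) i).mapIso e.symm ≪≫
      (DerivedCategory.homologyFunctorFactors (ModuleCat.{u} A) i).app I
  have e2 : (DerivedCategory.homologyFunctor (ModuleCat.{u} (Localization S)) i).obj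
      (Q.obj ((DTen.extCx φ).obj I)) ≅ (FlatBC.ext φ).obj (I.homology i) :=
    (DerivedCategory.homologyFunctorFactors (ModuleCat.{u} (Localization S)) i).app _ ≪≫
      (I.sc i).mapHomologyIso (FlatBC.ext φ)
  let u := ((ModuleCat.extendRestrictScalarsAdj.{u, u, u} φ).unit.app (I.homology i)).hom
  haveI : IsLocalizedModule S u := isLocalizedModule_unit φ S hloc (I.homology i)
  let f := u ∘ₗ e1.toLinearEquiv.toLinearMap
  haveI : IsLocalizedModule S f := IsLocalizedModule.of_linearEquiv_right S u e1.toLinearEquiv
  let E := IsLocalizedModule.iso S f
  -- upgrade to linearity over the localization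
  let EB : LocalizedModule S (Dual.HD A ω i) ≃ₗ[Localization S]
      ((FlatBC.ext φ).obj (I.homology i)) :=
    { toFun := fun y => E y
      invFun := fun t => E.symm t
      left_inv := fun y => E.symm_apply_apply y
      right_inv := fun t => E.apply_symm_apply t
      map_add' := fun y y' => E.map_add y y'
      map_smul' := by
        intro b y
        obtain ⟨⟨r, s⟩, hrs⟩ := IsLocalization.surj S b
        have hinj := ((Module.End.isUnit_iff _).mp (IsLocalizedModule.map_units f s)).1
        apply hinj
        change (s : A) • E (b • y) = (s : A) • (show ((ModuleCat.restrictScalars.{u} φ).obj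
          ((FlatBC.ext φ).obj (I.homology i))) from (b • (show ((FlatBC.ext φ).obj (I.homology i))
            from E y)))
        rw [← map_smul]
        have h1 : (s : A) • (b • y) = r • y := by
          rw [← algebraMap_smul (Localization S) (s : A) (b • y), smul_smul, mul_comm]
          rw [show b * algebraMap A (Localization S) (s : A) = algebraMap A (Localization S) r
            from hrs, algebraMap_smul]
        rw [h1, map_smul]
        change (r : A) • E y = (show ((FlatBC.ext φ).obj (I.homology i)) from
          (φ (s : A) • (b • (show ((FlatBC.ext φ).obj (I.homology i)) from E y))))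
        rw [smul_smul, mul_comm, show b * φ (s : A) = φ r from hrs]
        rfl }
  exact ⟨EB.trans e2.symm.toLinearEquiv⟩

end Groth.Agent.Lib.Helper25.GorUniq
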