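import Groth.Agent.Lib.Helper25.GorUniq.GorCrit
import Groth.Agent.Lib.Helper25.GorUniq.LocHom
import Groth.Agent.Lib.Helper25.LocDual.CMLocus

/-!
# The Gorenstein locus of a Noetherian ring with a dualizing complex is open (S0373)
-/

set_option autoImplicit false
universe u

namespace Groth.Agent.Lib.Helper25.GorUniq

open CategoryTheory CategoryTheory.Limits CategoryTheory.Pretriangulated DerivedCategory
open Groth.Agent.Lib.Helper84 Groth.Agent.Lib.Helper25.Bidual Groth.Agent.Lib.Helper25.LocDual

attribute [local instance] HasDerivedCategory.standard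

variable {A : Type u} [CommRing A] [IsNoetherianRing A]

theorem gor_localization_iff (ω : Dual.D A) (hω : Dual.IsDualizing A ω) (p : PrimeSpectrum A) :
    LocCoh.IsGorensteinLocalRing (Localization.AtPrime p.asIdeal) ↔
      ∃ m : ℤ, (∀ i : ℤ, i ≠ m → p ∉ Module.support A (Dual.HD A ω i)) ∧
        p ∈ Module.freeLocus A (Dual.HD A ω m) ∧ Module.rankAtStalk (Dual.HD A ω m) p = 1 := by
  let S := p.asIdeal.primeCompl
  let B := Localization S
  let φ : A →+* B := algebraMap A B
  have hloc : @IsLocalization A _ S B _ φ.toAlgebra := by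
    have h : φ.toAlgebra = (inferInstance : Algebra A B) :=
      Algebra.algebra_ext _ _ (fun _ => rfl)
    rw [h]
    infer_instance
  obtain ⟨I, a, b, hI, hz, ⟨e⟩⟩ := exists_bounded_injective_model ω hω
  have hz' : ∀ i, (i < a ∨ max a b < i) → IsZero (I.X i) := fun i hi => by
    rcases hi with hi | hi
    · exact hz i (Or.inl hi)
    · exact hz i (Or.inr (lt_of_le_of_lt (le_max_right a b) hi))
  have hB : Dual.IsDualizing B (Q.obj ((DTen.extCx φ).obj I)) :=
    isDualizing_ext φ S hloc I a (max a b) (le_max_left a b) hI hz'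
      (isDualizing_of_iso e.symm hω)
  haveI : IsNoetherianRing B := hB.isNoetherianRing
  have key : ∀ i : ℤ, p ∉ Module.support A (Dual.HD A ω i) ↔
      Subsingleton (Dual.HD B (Q.obj ((DTen.extCx φ).obj I)) i) := fun i => by
    rw [Module.mem_support_iff, nontrivial_localizedModule_iff φ S hloc ω I e i,
      not_nontrivial_iff_subsingleton]
  have key2 : ∀ m : ℤ, Nonempty (Dual.HD B (Q.obj ((DTen.extCx φ).obj I)) m ≃ₗ[B] B) ↔
      (p ∈ Module.freeLocus A (Dual.HD A ω m) ∧ Module.rankAtStalk (Dual.HD A ω m) p = 1) := by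
    intro m
    obtain ⟨l⟩ := nonempty_localizedModule_equiv S ω I e m
    constructor
    · rintro ⟨l₀⟩
      have l₁ : LocalizedModule S (Dual.HD A ω m) ≃ₗ[B] B := l.trans l₀
      refine ⟨Module.Free.of_equiv l₁.symm, ?_⟩
      change Module.finrank B (LocalizedModule S (Dual.HD A ω m)) = 1
      rw [l₁.finrank_eq, Module.finrank_self]
    · rintro ⟨hfree, hrank⟩
      have hfree' : Module.Free B (LocalizedModule S (Dual.HD A ω m)) := hfree
      have hrank' : Module.finrank B (LocalizedModule S (Dual.HD A ω m)) = 1 := hrank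
      obtain ⟨l₁⟩ := Module.nonempty_linearEquiv_of_finrank_eq_one hrank'
      exact ⟨l.symm.trans l₁.symm⟩
  have h1 : LocCoh.IsGorensteinLocalRing (Localization.AtPrime p.asIdeal) ↔
      LocCoh.IsGorensteinLocalRing B := Iff.rfl
  rw [h1, gor_iff _ hB]
  simp only [key, key2]

/-- S0373 -/
theorem gor_locus_open (ω : Dual.D A) (hω : Dual.IsDualizing A ω) :
    IsOpen {p : PrimeSpectrum A |
      LocCoh.IsGorensteinLocalRing (Localization.AtPrime p.asIdeal)} := by
  have hset : {p : PrimeSpectrum A |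
        LocCoh.IsGorensteinLocalRing (Localization.AtPrime p.asIdeal)} =
      {p | ∃ m : ℤ, (∀ i : ℤ, i ≠ m → p ∉ Module.support A (Dual.HD A ω i)) ∧
        p ∈ Module.freeLocus A (Dual.HD A ω m) ∧ Module.rankAtStalk (Dual.HD A ω m) p = 1} :=
    Set.ext (fun p => gor_localization_iff ω hω p)
  rw [hset]
  obtain ⟨a, b, hab⟩ : ∃ a b : ℤ, ∀ i : ℤ, (i < a ∨ b < i) →
      Subsingleton (Dual.HD A ω i) := by
    obtain ⟨I, a, b, hI, hz, ⟨e⟩⟩ := exists_bounded_injective_model ω hω
    refine ⟨a, b, fun i hi => ?_⟩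
    have h1 : IsZero ((homologyFunctor (ModuleCat.{u} A) i).obj (Q.obj I)) :=
      HomFinite.isZero_homology_Q I i (hz i hi)
    exact ModuleCat.subsingleton_of_isZero
      (h1.of_iso ((homologyFunctor (ModuleCat.{u} A) i).mapIso e.symm))
  have h2 : {p : PrimeSpectrum A |
        ∃ m : ℤ, (∀ i : ℤ, i ≠ m → p ∉ Module.support A (Dual.HD A ω i)) ∧
        p ∈ Module.freeLocus A (Dual.HD A ω m) ∧ Module.rankAtStalk (Dual.HD A ω m) p = 1} =
      ⋃ m : ℤ, (⋂ i ∈ (Finset.Icc a b).filter (· ≠ m),
        (Module.support A (Dual.HD A ω i))ᶜ) ∩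
        {p | p ∈ Module.freeLocus A (Dual.HD A ω m) ∧
          Module.rankAtStalk (Dual.HD A ω m) p = 1} := by
    ext p
    simp only [Set.mem_setOf_eq, Set.mem_iUnion, Set.mem_iInter, Finset.mem_filter,
      Finset.mem_Icc, Set.mem_compl_iff, Set.mem_inter_iff]
    constructor
    · rintro ⟨m, hm, h3⟩
      exact ⟨m, fun i hi => hm i hi.2, h3⟩
    · rintro ⟨m, hm, h3⟩
      refine ⟨m, fun i hi => ?_, h3⟩
      by_cases hi' : a ≤ i ∧ i ≤ b
      · exact hm i ⟨hi', hi⟩
      · intro hmem
        haveI := hab i (by omega)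
        rw [Module.mem_support_iff] at hmem
        exact not_subsingleton _ (inferInstance :
          Subsingleton (LocalizedModule p.asIdeal.primeCompl (Dual.HD A ω i)))
  rw [h2]
  refine isOpen_iUnion (fun m => IsOpen.inter (isOpen_biInter_finset (fun i _ => ?_)) ?_)
  · haveI := hω.finite_cohomology i
    exact Module.isClosed_support.isOpen_compl
  · haveI := hω.finite_cohomology m
    haveI : Module.FinitePresentation A (Dual.HD A ω m) :=
      Module.finitePresentation_of_finite A _
    have hopen : IsOpen (Module.freeLocus A (Dual.HD A ω m)) := Module.isOpen_freeLocus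
    have hlc := Module.isLocallyConstant_rankAtStalk_freeLocus (R := A) (M := Dual.HD A ω m)
    have h3 : IsOpen {x : Module.freeLocus A (Dual.HD A ω m) |
        Module.rankAtStalk (Dual.HD A ω m) x.1 = 1} := hlc.isOpen_fiber 1
    have h4 := hopen.isOpenMap_subtype_val _ h3
    convert h4 using 1
    ext p
    simp only [Set.mem_setOf_eq, Set.mem_image, Subtype.exists, exists_and_right,
      exists_eq_right]
    constructor
    · rintro ⟨h5, h6⟩
      exact ⟨h5, h6⟩
    · rintro ⟨h5, h6⟩
      exact ⟨h5, h6⟩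

end Groth.Agent.Lib.Helper25.GorUniq
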