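import Groth.Agent.Lib.Helper68.DualBasic
import Groth.Agent.Lib.Helper4.GorCM
import Groth.Agent.S11185
import Mathlib.RingTheory.LocalProperties.InjectiveDimension
import Mathlib.RingTheory.Ideal.KrullsHeightTheorem

/-!
# A Gorenstein ring of finite Krull dimension is a dualizing complex over itself
-/

set_option autoImplicit false
universe u

namespace Groth.Agent.Lib.Helper25.GorUniq

open CategoryTheory

attribute [local instance] HasDerivedCategory.standard

theorem isDualizing_self_of_gorenstein (A : Type u) [CommRing A] [IsNoetherianRing A]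
    (hG : ∀ p : PrimeSpectrum A, LocCoh.IsGorensteinLocalRing (Localization.AtPrime p.asIdeal))
    (hdim : ringKrullDim A < ⊤) : Dual.IsDualizing A (Dual.inD A A) := by
  obtain ⟨n, hn⟩ := Groth.Agent.S11185.exists_nat_of_lt_top hdim
  have key : HasInjectiveDimensionLE (ModuleCat.of A A) n := by
    rw [ModuleCat.hasInjectiveDimensionLE_iff_forall_primeSpectrum]
    intro p
    have _ := hG p
    have hp : ringKrullDim (Localization.AtPrime p.asIdeal) ≤ n := by
      rw [IsLocalization.AtPrime.ringKrullDim_eq_height p.asIdeal (Localization.AtPrime p.asIdeal)]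
      exact Ideal.height_le_ringKrullDim_of_isPrime.trans hn
    obtain ⟨d, hd, -, h1⟩ := Groth.Agent.Lib.Helper4.GorCM.gorenstein_dim
      (Localization.AtPrime p.asIdeal)
    have hdn : d ≤ n := by
      rw [hd] at hp
      exact_mod_cast hp
    have h2 : HasInjectiveDimensionLT
        (ModuleCat.of (Localization.AtPrime p.asIdeal) (Localization.AtPrime p.asIdeal)) (n + 1) :=
      hasInjectiveDimensionLT_of_ge _ (d + 1) (n + 1) (by omega)
    let e1 : LocalizedModule p.asIdeal.primeCompl A ≃ₗ[Localization.AtPrime p.asIdeal]
        Localization.AtPrime p.asIdeal :=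
      LinearEquiv.extendScalarsOfIsLocalization p.asIdeal.primeCompl
        (Localization.AtPrime p.asIdeal)
        (IsLocalizedModule.linearEquiv p.asIdeal.primeCompl
          (LocalizedModule.mkLinearMap p.asIdeal.primeCompl A)
          (Algebra.linearMap A (Localization.AtPrime p.asIdeal)))
    let e2 : Shrink.{u} (LocalizedModule p.asIdeal.primeCompl A)
        ≃ₗ[Localization.AtPrime p.asIdeal] Localization.AtPrime p.asIdeal :=
      (Shrink.linearEquiv (Localization.AtPrime p.asIdeal) _).trans e1
    exact hasInjectiveDimensionLT_of_iso e2.toModuleIso.symm (n + 1)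
  exact Groth.Agent.Lib.Helper68.DualBasic.isDualizing_self_of_hasInjectiveDimensionLT A (n + 1)

end Groth.Agent.Lib.Helper25.GorUniq
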