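import Groth.Agent.Lib.Helper25.GorUniq.QuotStep
import Groth.Agent.Lib.Helper25.GorUniq.Base

/-!
# Over a Gorenstein local ring every dualizing module is free of rank one
-/

set_option autoImplicit false
universe u

namespace Groth.Agent.Lib.Helper25.GorUniq

open CategoryTheory CategoryTheory.Limits CategoryTheory.Pretriangulated DerivedCategory
open Groth.Agent.Lib.Helper25.Bidual Groth.Agent.Lib.Helper25.LocDual
open Groth.Agent.Lib.Helper25.Coext

attribute [local instance] HasDerivedCategory.standard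

theorem withBot_add_one_cancel (a : WithBot ℕ∞) (n : ℕ)
    (h : a + 1 = ((n + 1 : ℕ) : WithBot ℕ∞)) : a = (n : WithBot ℕ∞) := by
  induction a using WithBot.recBotCoe with
  | bot =>
    exfalso
    rw [WithBot.bot_add] at h
    have h' : (⊥ : WithBot ℕ∞) = (((n + 1 : ℕ) : ℕ∞) : WithBot ℕ∞) := h
    exact WithBot.bot_ne_coe h'
  | coe a =>
    induction a using ENat.recTopCoe with
    | top =>
      exfalso
      have h1 : ((⊤ : ℕ∞) : WithBot ℕ∞) + 1 = ((⊤ : ℕ∞) : WithBot ℕ∞) := by
        rw [show (1 : WithBot ℕ∞) = ((1 : ℕ∞) : WithBot ℕ∞) from rfl, ← WithBot.coe_add, top_add]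
      rw [h1, show ((n + 1 : ℕ) : WithBot ℕ∞) = (((n + 1 : ℕ) : ℕ∞) : WithBot ℕ∞) from rfl,
        WithBot.coe_inj] at h
      exact ENat.top_ne_natCast _ h
    | coe k =>
      have h' : k + 1 = n + 1 := by exact_mod_cast h
      have : k = n := by omega
      subst this
      rfl

theorem gor_uniq : ∀ (d : ℕ) (B : Type u) [CommRing B] [IsLocalRing B] [IsNoetherianRing B],
    ringKrullDim B = d → Dual.IsDualizing B (Dual.inD B B) →
    ∀ (V : Type u) [AddCommGroup V] [Module B V] [Module.Finite B V],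
      Dual.IsDualizing B (Dual.inD B V) → Nonempty (B ≃ₗ[B] V) := by
  intro d
  induction d with
  | zero =>
    intro B _ _ _ h0 hB V _ _ _ hV
    exact nonempty_linearEquiv_of_dim_zero (by exact_mod_cast h0) B V hB hV
  | succ d ih =>
    intro B _ _ _ hdim hB V _ _ _ hV
    have hd : Module.supportDim B B = ((d + 1 : ℕ) : WithBot ℕ∞) := by
      rw [Module.supportDim_self_eq_ringKrullDim, hdim]
    obtain ⟨x, hxm, hreg, hx⟩ := exists_regular V hV (d + 1) hd (Nat.succ_pos d)
    have hregB : IsSMulRegular B x := by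
      intro a b hab
      have h1 : (a - b) * x = 0 := by
        have : x * a = x * b := hab
        rw [sub_mul, mul_comm a x, mul_comm b x, this, sub_self]
      exact sub_eq_zero.1 ((mem_nonZeroDivisors_iff_right.1 hx) _ h1)
    -- the quotient ring
    have hne : Ideal.span {x} ≠ (⊤ : Ideal B) := by
      intro htop
      have h1 : Ideal.span {x} ≤ IsLocalRing.maximalIdeal B :=
        (Ideal.span_singleton_le_iff_mem _).2 hxm
      rw [htop] at h1
      exact (IsLocalRing.maximalIdeal.isMaximal B).ne_top (top_le_iff.1 h1)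
    haveI : Nontrivial (B ⧸ Ideal.span {x}) := Ideal.Quotient.nontrivial_iff.2 hne
    haveI : IsLocalRing (B ⧸ Ideal.span {x}) :=
      IsLocalRing.of_surjective' (Ideal.Quotient.mk (Ideal.span {x})) Ideal.Quotient.mk_surjective
    have hdim' : ringKrullDim (B ⧸ Ideal.span {x}) = (d : WithBot ℕ∞) := by
      have h1 := ringKrullDim_quotient_span_singleton_succ_eq_ringKrullDim hregB hxm
      rw [hdim] at h1
      exact withBot_add_one_cancel _ d h1
    obtain ⟨B'', hfinB, hdB, gB, hgBs, hgBk⟩ := quot_step x hx B hB hregB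
    obtain ⟨V', hfinV, hdV, gV, hgVs, hgVk⟩ := quot_step x hx V hV hreg
    -- `B'' ≅ B'`
    have hsm : ∀ (W' : ModuleCat.{u} (B ⧸ Ideal.span {x})) (b : B)
        (w : (ModuleCat.restrictScalars.{u} (qm x)).obj W'),
        b • w = (show W' from (Ideal.Quotient.mk (Ideal.span {x}) b • (show W' from w))) :=
      fun _ _ _ => rfl
    let ψ : (B ⧸ Ideal.span {x}) →ₗ[B ⧸ Ideal.span {x}] B'' :=
      LinearMap.toSpanSingleton (B ⧸ Ideal.span {x}) B'' (gB 1)
    have hψ : ∀ b : B, ψ (Ideal.Quotient.mk _ b) = gB b := by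
      intro b
      have h1 : gB b = gB (b • (1 : B)) := by rw [smul_eq_mul, mul_one]
      rw [h1, map_smul]
      rfl
    have hψbij : Function.Bijective ψ := by
      constructor
      · rw [injective_iff_map_eq_zero]
        intro c hc
        obtain ⟨b, rfl⟩ := Ideal.Quotient.mk_surjective c
        rw [hψ] at hc
        obtain ⟨b₁, hb₁⟩ := (hgBk b).1 hc
        rw [Ideal.Quotient.eq_zero_iff_mem, Ideal.mem_span_singleton']
        exact ⟨b₁, by rw [← hb₁, smul_eq_mul, mul_comm]⟩
      · intro w
        obtain ⟨b, hb⟩ := hgBs w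
        exact ⟨Ideal.Quotient.mk _ b, (hψ b).trans hb⟩
    let eψ : (B ⧸ Ideal.span {x}) ≃ₗ[B ⧸ Ideal.span {x}] B'' := LinearEquiv.ofBijective ψ hψbij
    have hB' : Dual.IsDualizing (B ⧸ Ideal.span {x})
        (Dual.inD (B ⧸ Ideal.span {x}) (B ⧸ Ideal.span {x})) :=
      isDualizing_of_iso ((singleFunctor (ModuleCat.{u} (B ⧸ Ideal.span {x})) 0).mapIso
        eψ.toModuleIso.symm) hdB
    haveI := hfinV
    obtain ⟨eV⟩ := ih (B ⧸ Ideal.span {x}) hdim' hB' V' hdV
    -- lift a generator
    obtain ⟨v, hv⟩ := hgVs (eV 1)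
    have hspan : (⊤ : Submodule B V) ≤ Submodule.span B {v} := by
      apply Submodule.le_of_le_smul_of_le_jacobson_bot (I := IsLocalRing.maximalIdeal B)
        (Module.finite_def.1 inferInstance)
        (by rw [IsLocalRing.jacobson_eq_maximalIdeal ⊥ bot_ne_top])
      intro w _
      obtain ⟨c, hc⟩ : ∃ c : B ⧸ Ideal.span {x}, (show V' from gV w) = c • eV 1 := by
        refine ⟨eV.symm (gV w), ?_⟩
        have h1 : eV (eV.symm (gV w)) = eV (eV.symm (gV w) • (1 : B ⧸ Ideal.span {x})) := by
          rw [smul_eq_mul, mul_one]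
        rw [← map_smul, ← h1, LinearEquiv.apply_symm_apply]
      obtain ⟨b, rfl⟩ := Ideal.Quotient.mk_surjective c
      have h2 : gV (w - b • v) = 0 := by
        rw [map_sub, map_smul, hv, sub_eq_zero]
        exact hc
      obtain ⟨w₁, hw₁⟩ := (hgVk _).1 h2
      have h3 : w = b • v + x • w₁ := by rw [hw₁]; abel
      rw [h3]
      exact Submodule.add_mem_sup (Submodule.smul_mem _ _ (Submodule.mem_span_singleton_self v))
        (Submodule.smul_mem_smul hxm Submodule.mem_top)
    let φ : B →ₗ[B] V := LinearMap.toSpanSingleton B V v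
    have hφbij : Function.Bijective φ := by
      constructor
      · rw [injective_iff_map_eq_zero]
        intro b hb
        refine eq_zero_of_smul_eq_zero V hV b (fun w => ?_)
        obtain ⟨c, rfl⟩ := Submodule.mem_span_singleton.1 (hspan (Submodule.mem_top : w ∈ ⊤))
        have hb' : b • v = 0 := by simpa [φ] using hb
        rw [smul_comm, hb', smul_zero]
      · intro w
        obtain ⟨c, rfl⟩ := Submodule.mem_span_singleton.1 (hspan (Submodule.mem_top : w ∈ ⊤))
        exact ⟨c, by simp [φ]⟩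
    exact ⟨LinearEquiv.ofBijective φ hφbij⟩

end Groth.Agent.Lib.Helper25.GorUniq
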