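import Groth.Agent.Lib.Helper25.LocDual.CMCrit

/-!
# The normalizing shift of a dualizing module is the dimension
-/

set_option autoImplicit false
universe u

namespace Groth.Agent.Lib.Helper25.GorUniq

open CategoryTheory CategoryTheory.Limits CategoryTheory.Pretriangulated DerivedCategory
open Groth.Agent.Lib.Helper25.Bidual Groth.Agent.Lib.Helper25.LocDual

attribute [local instance] HasDerivedCategory.standard

variable {B : Type u} [CommRing B] [IsLocalRing B] [IsNoetherianRing B]

/-- `Ext^i(κ, V) = 0` for `i ≠ dim B`, for a dualizing module `V` -/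
theorem residue_vanish_ne_dim (V : Type u) [AddCommGroup V] [Module B V]
    [Module.Finite B V] (h : Dual.IsDualizing B (Dual.inD B V)) (d : ℕ)
    (hd : Module.supportDim B B = d) (i : ℤ) (hi : i ≠ d) :
    Subsingleton (Dual.inD B (B ⧸ IsLocalRing.maximalIdeal B) ⟶ (Dual.inD B V)⟦i⟧) := by
  have : Nontrivial V := by
    by_contra hV
    rw [not_nontrivial_iff_subsingleton] at hV
    have hz : IsZero (Dual.inD B V) :=
      (singleFunctor (ModuleCat.{u} B) 0).map_isZero (ModuleCat.isZero_of_subsingleton _)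
    have h1 : (1 : B) • 𝟙 (Dual.inD B V) = (0 : B) • 𝟙 (Dual.inD B V) :=
      hz.eq_of_src _ _
    exact one_ne_zero (h.toEnd_bijective.1 h1)
  set ω := Dual.inD B V with hωdef
  obtain ⟨n, hn1, -⟩ := residue_main (IsLocalRing.maximalIdeal B) ω h
  have hω' := isDualizing_shift ω h n
  have eadd : ∀ i : ℤ, (ω⟦n⟧)⟦i⟧ ≅ ω⟦n + i⟧ := fun i =>
    ((shiftFunctorAdd' (Dual.D B) n i (n + i) rfl).app ω).symm
  have hnorm : Dual.IsNormalized B (ω⟦n⟧) := by
    intro i hi
    exact (subsingleton_hom_congr_right (eadd i)).2 (hn1 (n + i) (by omega))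
  have key : ∀ k : ℤ, Subsingleton (Dual.inD B B ⟶ (ω⟦n⟧)⟦k⟧) ↔ n + k ≠ 0 := fun k => by
    rw [subsingleton_hom_congr_right (eadd k)]
    exact subsingleton_hom_self_single_iff V (n + k)
  have hnd : n = d := by
    have hnt := nontrivial_ext_neg_dim (ω⟦n⟧) hω' hnorm B d hd
    by_contra hne
    have := (key (-(d : ℤ))).2 (by omega)
    exact not_subsingleton _ this
  exact hn1 i (by omega)

end Groth.Agent.Lib.Helper25.GorUniq
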