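import Groth.Agent.Lib.Helper25.GorUniq.Regular
import Groth.Agent.Lib.Helper25.Coext.Quot
import Groth.Agent.Lib.Helper25.Bidual.RightAdj
import Groth.Agent.Lib.Helper25.SchCM.MapHomology

/-!
# Dualizing modules modulo a regular element
-/

set_option autoImplicit false
universe u

namespace Groth.Agent.Lib.Helper25.GorUniq

open CategoryTheory CategoryTheory.Limits CategoryTheory.Pretriangulated DerivedCategory
open Groth.Agent.Lib.Helper25.Bidual Groth.Agent.Lib.Helper25.LocDual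
open Groth.Agent.Lib.Helper25.Coext

attribute [local instance] HasDerivedCategory.standard

variable {B : Type u} [CommRing B] [IsNoetherianRing B]

theorem quot_step (x : B) (hx : x ∈ nonZeroDivisors B) (W : Type u) [AddCommGroup W] [Module B W]
    (hW : Dual.IsDualizing B (Dual.inD B W)) (hreg : IsSMulRegular W x) :
    ∃ (W' : ModuleCat.{u} (B ⧸ Ideal.span {x})), Module.Finite (B ⧸ Ideal.span {x}) W' ∧
      Dual.IsDualizing (B ⧸ Ideal.span {x}) (Dual.inD (B ⧸ Ideal.span {x}) W') ∧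
      ∃ g : W →ₗ[B] ((ModuleCat.restrictScalars.{u} (qm x)).obj W'),
        Function.Surjective g ∧ ∀ w, g w = 0 ↔ ∃ w₁, x • w₁ = w := by
  let π : B →+* B ⧸ Ideal.span {x} := qm x
  let R := (DRing.restrictD π).rightAdjoint
  let adj : DRing.restrictD π ⊣ R := Adjunction.ofIsLeftAdjoint _
  set ω := Dual.inD B W with hω
  let ρ := R.obj ω
  have hρ : Dual.IsDualizing (B ⧸ Ideal.span {x}) ρ :=
    isDualizing_rightAdjoint π (RingHom.Finite.of_surjective π Ideal.Quotient.mk_surjective)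
      adj ω hW
  obtain ⟨u, w, hT⟩ := Coext.main hx ω R adj
  set T := Triangle.mk u (x • 𝟙 ω) w with hTdef
  -- cohomology of `ω`
  have hz : ∀ i : ℤ, i ≠ 0 → IsZero ((homologyFunctor (ModuleCat.{u} B) i).obj ω) := by
    intro i hi
    rcases lt_or_gt_of_ne hi with h | h
    · exact isZero_of_isGE _ 0 i h
    · exact isZero_of_isLE _ 0 i h
  let e0 : (homologyFunctor (ModuleCat.{u} B) 0).obj ω ≅ ModuleCat.of B W :=
    (singleFunctorCompHomologyFunctorIso (ModuleCat.{u} B) 0).app (ModuleCat.of B W)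
  have hnat : (homologyFunctor (ModuleCat.{u} B) 0).map (x • 𝟙 ω) =
      e0.hom ≫ (x • 𝟙 (ModuleCat.of B W)) ≫ e0.inv := by
    have h1 : x • 𝟙 ω = (singleFunctor (ModuleCat.{u} B) 0).map (x • 𝟙 (ModuleCat.of B W)) := by
      rw [Functor.map_smul, CategoryTheory.Functor.map_id]
    have h2 := (singleFunctorCompHomologyFunctorIso (ModuleCat.{u} B) 0).hom.naturality
      (x • 𝟙 (ModuleCat.of B W))
    rw [h1, ← cancel_mono e0.hom, Category.assoc, Category.assoc, Iso.inv_hom_id,
      Category.comp_id]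
    exact h2
  have hmonoW : Mono (x • 𝟙 (ModuleCat.of B W)) := by
    rw [ModuleCat.mono_iff_injective]
    intro a b hab
    exact hreg hab
  have hmono : Mono ((homologyFunctor (ModuleCat.{u} B) 0).map T.mor₂) := by
    change Mono ((homologyFunctor (ModuleCat.{u} B) 0).map (x • 𝟙 ω))
    rw [hnat]
    infer_instance
  -- cohomology of `restr ρ`
  have hz1 : ∀ i : ℤ, i ≠ 1 →
      IsZero ((homologyFunctor (ModuleCat.{u} B) i).obj T.obj₁) := by
    intro i hi
    by_cases hi0 : i = 0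
    · subst hi0
      have ex1 := HomologySequence.exact₁ T hT (-1) 0 (by omega)
      have ex2 := HomologySequence.exact₂ T hT 0
      have hm1 : (homologyFunctor (ModuleCat.{u} B) 0).map T.mor₁ = 0 := by
        rw [← cancel_mono ((homologyFunctor (ModuleCat.{u} B) 0).map T.mor₂), zero_comp,
          ← Functor.map_comp, comp_distTriang_mor_zero₁₂ _ hT, Functor.map_zero]
      exact ex1.isZero_X₂ ((hz (-1) (by omega)).eq_of_src _ _) hm1
    · have ex1 := HomologySequence.exact₁ T hT (i - 1) i (by omega)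
      exact ex1.isZero_X₂ ((hz (i - 1) (by omega)).eq_of_src _ _) ((hz i hi0).eq_of_tgt _ _)
  have h01 : (0 : ℤ) + 1 = 1 := by omega
  let δ₀₁ := HomologySequence.δ T 0 1 h01
  have ex3 := HomologySequence.exact₃ T hT 0 1 h01
  have hepi : Epi δ₀₁ := by
    have ex1 := HomologySequence.exact₁ T hT 0 1 h01
    exact ex1.epi_f ((hz 1 (by omega)).eq_of_tgt _ _)
  -- transfer to `ρ`
  have eH : ∀ i : ℤ, Nonempty ((ModuleCat.restrictScalars.{u} π).obj
      ((homologyFunctor (ModuleCat.{u} (B ⧸ Ideal.span {x})) i).obj ρ) ≅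
      (homologyFunctor (ModuleCat.{u} B) i).obj T.obj₁) := fun i =>
    SchCM.nonempty_map_homology_iso (ModuleCat.restrictScalars.{u} π) ρ i
  have hzρ : ∀ i : ℤ, i ≠ 1 →
      Subsingleton (Dual.HD (B ⧸ Ideal.span {x}) ρ i) := by
    intro i hi
    obtain ⟨e⟩ := eH i
    have h1 : Subsingleton ((homologyFunctor (ModuleCat.{u} B) i).obj T.obj₁) :=
      ModuleCat.subsingleton_of_isZero (hz1 i hi)
    exact e.toLinearEquiv.toEquiv.subsingleton
  have : ρ.IsGE 1 := (DerivedCategory.isGE_iff ρ 1).2 (fun i hi => by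
    have := hzρ i (ne_of_lt hi)
    exact ModuleCat.isZero_of_subsingleton _)
  have : ρ.IsLE 1 := (DerivedCategory.isLE_iff ρ 1).2 (fun i hi => by
    have := hzρ i (ne_of_gt hi)
    exact ModuleCat.isZero_of_subsingleton _)
  obtain ⟨W', ⟨eρ⟩⟩ := DerivedCategory.exists_iso_singleFunctor_obj_of_isGE_of_isLE ρ 1
  let e' : ρ⟦(1 : ℤ)⟧ ≅ Dual.inD (B ⧸ Ideal.span {x}) W' :=
    (shiftFunctor (Dual.D (B ⧸ Ideal.span {x})) (1 : ℤ)).mapIso eρ ≪≫
    ((singleFunctors (ModuleCat.{u} (B ⧸ Ideal.span {x}))).shiftIso 1 0 1 (by simp)).app W'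
  have hd : Dual.IsDualizing (B ⧸ Ideal.span {x}) (Dual.inD (B ⧸ Ideal.span {x}) W') :=
    isDualizing_of_iso e' (isDualizing_shift ρ hρ 1)
  have hfin : Module.Finite (B ⧸ Ideal.span {x}) W' := by
    have h0 := hd.finite_cohomology 0
    let e0' := ((singleFunctorCompHomologyFunctorIso
      (ModuleCat.{u} (B ⧸ Ideal.span {x})) 0).app W').toLinearEquiv
    have h1 : Module.Finite (B ⧸ Ideal.span {x})
        ((singleFunctor (ModuleCat.{u} (B ⧸ Ideal.span {x})) 0 ⋙
        homologyFunctor (ModuleCat.{u} (B ⧸ Ideal.span {x})) 0).obj W') := h0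
    have h2 : Module.Finite (B ⧸ Ideal.span {x})
        ((𝟭 (ModuleCat.{u} (B ⧸ Ideal.span {x}))).obj W') := Module.Finite.equiv e0'
    exact h2
  refine ⟨W', hfin, hd, ?_⟩
  -- `H^1(ρ) ≅ W'`
  let e1 : (homologyFunctor (ModuleCat.{u} (B ⧸ Ideal.span {x})) 1).obj ρ ≅ W' :=
    (homologyFunctor _ 1).mapIso eρ ≪≫
      (singleFunctorCompHomologyFunctorIso (ModuleCat.{u} (B ⧸ Ideal.span {x})) 1).app W'
  obtain ⟨eH1⟩ := eH 1
  let γ : ModuleCat.of B W ⟶ (ModuleCat.restrictScalars.{u} π).obj W' :=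
    e0.inv ≫ δ₀₁ ≫ eH1.inv ≫
      (ModuleCat.restrictScalars.{u} π).map e1.hom
  refine ⟨γ.hom, ?_, ?_⟩
  · rw [← ModuleCat.epi_iff_surjective]
    have h1 : Epi ((ModuleCat.restrictScalars.{u} π).map e1.hom) := inferInstance
    have h2 : Epi (eH1.inv ≫ (ModuleCat.restrictScalars.{u} π).map e1.hom) := epi_comp _ _
    have h3 : Epi (δ₀₁ ≫ eH1.inv ≫ (ModuleCat.restrictScalars.{u} π).map e1.hom) :=
      @epi_comp _ _ _ _ _ δ₀₁ hepi _ h2
    have h4 : Epi e0.inv := inferInstance
    exact @epi_comp _ _ _ _ _ e0.inv h4 _ h3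
  · intro w₀
    have hγ : ∀ w₀, γ.hom w₀ = 0 ↔ δ₀₁.hom (e0.inv.hom w₀) = 0 := by
      intro w₀
      have hiso : IsIso (eH1.inv ≫ (ModuleCat.restrictScalars.{u} π).map e1.hom) := inferInstance
      have hinj : Function.Injective (eH1.inv ≫ (ModuleCat.restrictScalars.{u} π).map e1.hom).hom :=
        ((ModuleCat.mono_iff_injective _).1 inferInstance)
      constructor
      · intro h
        apply hinj
        rw [map_zero]
        exact h
      · intro h
        change (eH1.inv ≫ (ModuleCat.restrictScalars.{u} π).map e1.hom).hom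
          (δ₀₁.hom (e0.inv.hom w₀)) = 0
        rw [h, map_zero]
    rw [hγ]
    have hex := (ShortComplex.moduleCat_exact_iff _).1 ex3
    constructor
    · intro h
      obtain ⟨y, hy⟩ := hex (e0.inv.hom w₀) h
      refine ⟨e0.hom.hom y, ?_⟩
      have h3 : ((homologyFunctor (ModuleCat.{u} B) 0).map (x • 𝟙 ω)).hom y = e0.inv.hom w₀ := hy
      rw [hnat] at h3
      have h4 := congrArg e0.hom.hom h3
      simp only [ModuleCat.hom_comp, LinearMap.comp_apply] at h4
      have h5 : e0.hom.hom (e0.inv.hom w₀) = w₀ := by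
        rw [← LinearMap.comp_apply, ← ModuleCat.hom_comp, Iso.inv_hom_id]; rfl
      have h6 : ∀ z, e0.hom.hom (e0.inv.hom z) = z := fun z => by
        rw [← LinearMap.comp_apply, ← ModuleCat.hom_comp, Iso.inv_hom_id]; rfl
      rw [h6, h6] at h4
      exact h4
    · rintro ⟨w₁, rfl⟩
      have h3 : e0.inv.hom (x • w₁) =
          ((homologyFunctor (ModuleCat.{u} B) 0).map (x • 𝟙 ω)).hom (e0.inv.hom w₁) := by
        rw [hnat]
        simp only [ModuleCat.hom_comp, LinearMap.comp_apply]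
        have h6 : ∀ z, e0.hom.hom (e0.inv.hom z) = z := fun z => by
          rw [← LinearMap.comp_apply, ← ModuleCat.hom_comp, Iso.inv_hom_id]; rfl
        rw [h6]
        rfl
      rw [h3]
      have hc : (homologyFunctor (ModuleCat.{u} B) 0).map T.mor₂ ≫ δ₀₁ = 0 :=
        HomologySequence.comp_δ T hT 0 1 h01
      have := congrArg (fun φ => φ.hom (e0.inv.hom w₁)) hc
      exact this

end Groth.Agent.Lib.Helper25.GorUniq
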