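import Groth.Agent.Lib.Helper25.GorUniq.Norm

/-!
# A regular element for a dualizing module over a local ring of positive dimension
-/

set_option autoImplicit false
universe u

namespace Groth.Agent.Lib.Helper25.GorUniq

open CategoryTheory CategoryTheory.Limits CategoryTheory.Pretriangulated DerivedCategory
open Groth.Agent.Lib.Helper25.Bidual Groth.Agent.Lib.Helper25.LocDual

attribute [local instance] HasDerivedCategory.standard

variable {B : Type u} [CommRing B] [IsLocalRing B] [IsNoetherianRing B]

/-- `Hom(κ, V) = 0` when `dim B > 0` -/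
theorem hom_residue_eq_zero (V : Type u) [AddCommGroup V] [Module B V]
    [Module.Finite B V] (h : Dual.IsDualizing B (Dual.inD B V)) (d : ℕ)
    (hd : Module.supportDim B B = d) (hpos : 0 < d)
    (f : (B ⧸ IsLocalRing.maximalIdeal B) →ₗ[B] V) : f = 0 := by
  have h0 := residue_vanish_ne_dim V h d hd 0 (by exact_mod_cast hpos.ne)
  have h1 : Subsingleton (Dual.inD B (B ⧸ IsLocalRing.maximalIdeal B) ⟶ Dual.inD B V) :=
    (subsingleton_hom_congr_right ((shiftFunctorZero (Dual.D B) ℤ).app (Dual.inD B V))).1 h0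
  have h2 : (singleFunctor (ModuleCat.{u} B) 0).map (ModuleCat.ofHom f) =
      (singleFunctor (ModuleCat.{u} B) 0).map (ModuleCat.ofHom (0 : _ →ₗ[B] V)) :=
    Subsingleton.elim _ _
  have h3 := (singleFunctor (ModuleCat.{u} B) 0).map_injective h2
  have h4 := congrArg ModuleCat.Hom.hom h3
  simpa using h4

omit [IsLocalRing B] [IsNoetherianRing B] in
/-- a dualizing module is faithful -/
theorem eq_zero_of_smul_eq_zero (V : Type u) [AddCommGroup V] [Module B V]
    (h : Dual.IsDualizing B (Dual.inD B V)) (b : B) (hb : ∀ v : V, b • v = 0) : b = 0 := by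
  have h1 : b • 𝟙 (Dual.inD B V) = (0 : B) • 𝟙 (Dual.inD B V) := by
    have h2 : b • 𝟙 (ModuleCat.of B V) = 0 := by
      ext v
      exact hb v
    have h3 : b • 𝟙 (Dual.inD B V) =
        (singleFunctor (ModuleCat.{u} B) 0).map (b • 𝟙 (ModuleCat.of B V)) := by
      rw [Functor.map_smul, CategoryTheory.Functor.map_id]
    rw [h3, h2, Functor.map_zero, zero_smul]
  exact h.toEnd_bijective.1 h1

/-- a regular element -/
theorem exists_regular (V : Type u) [AddCommGroup V] [Module B V]
    [Module.Finite B V] (h : Dual.IsDualizing B (Dual.inD B V)) (d : ℕ)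
    (hd : Module.supportDim B B = d) (hpos : 0 < d) :
    ∃ x ∈ IsLocalRing.maximalIdeal B, IsSMulRegular V x ∧ x ∈ nonZeroDivisors B := by
  -- the maximal ideal is not associated to `V`
  have hass : IsLocalRing.maximalIdeal B ∉ associatedPrimes B V := by
    intro hm
    obtain ⟨-, v, hv⟩ := (isAssociatedPrime_iff.1 hm)
    let g : B →ₗ[B] V := LinearMap.toSpanSingleton B V v
    have hg : IsLocalRing.maximalIdeal B ≤ LinearMap.ker g := by
      intro r hr
      rw [hv, Submodule.mem_colon_singleton] at hr
      simpa [g] using hr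
    let f : (B ⧸ IsLocalRing.maximalIdeal B) →ₗ[B] V :=
      Submodule.liftQ (IsLocalRing.maximalIdeal B) g hg
    have hf := hom_residue_eq_zero V h d hd hpos f
    have hv0 : v = 0 := by
      have : f (Submodule.Quotient.mk 1) = v := by
        change Submodule.liftQ (IsLocalRing.maximalIdeal B) g hg (Submodule.Quotient.mk 1) = v
        rw [Submodule.liftQ_apply]
        simp [g]
      rw [← this, hf, LinearMap.zero_apply]
    have : (1 : B) ∈ IsLocalRing.maximalIdeal B := by
      rw [hv, Submodule.mem_colon_singleton, hv0, smul_zero]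
      exact Submodule.zero_mem _
    exact (IsLocalRing.maximalIdeal.isMaximal B).ne_top
      ((Ideal.eq_top_iff_one _).2 this)
  -- prime avoidance
  have hfin : (associatedPrimes B V).Finite := associatedPrimes.finite B V
  have hnot : ¬ ((IsLocalRing.maximalIdeal B : Set B) ⊆
      ⋃ p ∈ (↑hfin.toFinset : Set (Ideal B)), (p : Set B)) := by
    intro hsub
    obtain ⟨p, hp, hle⟩ := (Ideal.subset_union_prime (f := fun p : Ideal B => p)
      (IsLocalRing.maximalIdeal B) (IsLocalRing.maximalIdeal B)
      (fun i hi _ _ => ((Set.Finite.mem_toFinset hfin).1 hi).isPrime)).1 hsub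
    have hp' : p ∈ associatedPrimes B V := (Set.Finite.mem_toFinset hfin).1 hp
    have hpm : p = IsLocalRing.maximalIdeal B :=
      ((IsLocalRing.maximalIdeal.isMaximal B).eq_of_le hp'.isPrime.ne_top hle).symm
    exact hass (hpm ▸ hp')
  rw [Set.not_subset] at hnot
  obtain ⟨x, hx, hx'⟩ := hnot
  have hreg : IsSMulRegular V x := by
    by_contra hnr
    have hx2 : x ∈ {r : B | ∃ v : V, v ≠ 0 ∧ r • v = 0} := by
      rw [isSMulRegular_iff_right_eq_zero_of_smul] at hnr
      push Not at hnr
      obtain ⟨v, hv, hv'⟩ := hnr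
      exact ⟨v, hv', hv⟩
    rw [← biUnion_associatedPrimes_eq_zero_divisors] at hx2
    apply hx'
    simp only [Set.mem_iUnion] at hx2 ⊢
    obtain ⟨p, hp, hxp⟩ := hx2
    exact ⟨p, (Set.Finite.mem_toFinset hfin).2 hp, hxp⟩
  refine ⟨x, hx, hreg, ?_⟩
  rw [mem_nonZeroDivisors_iff_right]
  intro b hb
  refine eq_zero_of_smul_eq_zero V h b (fun v => ?_)
  apply hreg
  change x • (b • v) = x • (0 : V)
  rw [smul_zero, smul_smul, mul_comm, hb, zero_smul]

end Groth.Agent.Lib.Helper25.GorUniq
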